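import Mathlib

/-!
# The dihedral group of order eight, finite facts
-/

set_option autoImplicit false

namespace Cfsg.Agent.Lib.WreathFour

open DihedralGroup

/-- The dihedral group of order eight. -/
abbrev D := DihedralGroup 4

abbrev c : D := r 2
abbrev u1 : D := sr 0
abbrev u2 : D := sr 1

abbrev InZ (a : D) : Prop := a = 1 ∨ a = c
abbrev InU1 (a : D) : Prop := a = 1 ∨ a = c ∨ a = sr 0 ∨ a = sr 2
abbrev InU2 (a : D) : Prop := a = 1 ∨ a = c ∨ a = sr 1 ∨ a = sr 3

/-- The centre. -/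
def Z : Subgroup D where
  carrier := {a | InZ a}
  mul_mem' := fun {a b} => (by decide : ∀ a b : D, InZ a → InZ b → InZ (a * b)) a b
  one_mem' := Or.inl rfl
  inv_mem' := fun {a} => (by decide : ∀ a : D, InZ a → InZ a⁻¹) a

/-- The first four-group. -/
def U1 : Subgroup D where
  carrier := {a | InU1 a}
  mul_mem' := fun {a b} => (by decide : ∀ a b : D, InU1 a → InU1 b → InU1 (a * b)) a b
  one_mem' := Or.inl rfl
  inv_mem' := fun {a} => (by decide : ∀ a : D, InU1 a → InU1 a⁻¹) a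

/-- The second four-group. -/
def U2 : Subgroup D where
  carrier := {a | InU2 a}
  mul_mem' := fun {a b} => (by decide : ∀ a b : D, InU2 a → InU2 b → InU2 (a * b)) a b
  one_mem' := Or.inl rfl
  inv_mem' := fun {a} => (by decide : ∀ a : D, InU2 a → InU2 a⁻¹) a

theorem mem_Z {a : D} : a ∈ Z ↔ InZ a := Iff.rfl
theorem mem_U1 {a : D} : a ∈ U1 ↔ InU1 a := Iff.rfl
theorem mem_U2 {a : D} : a ∈ U2 ↔ InU2 a := Iff.rfl

theorem card_Z : Nat.card Z = 2 := by
  show Nat.card {a : D // InZ a} = 2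
  rw [Nat.card_eq_fintype_card]; decide

theorem card_U1 : Nat.card U1 = 4 := by
  show Nat.card {a : D // InU1 a} = 4
  rw [Nat.card_eq_fintype_card]; decide

theorem card_U2 : Nat.card U2 = 4 := by
  show Nat.card {a : D // InU2 a} = 4
  rw [Nat.card_eq_fintype_card]; decide

theorem card_D : Nat.card D = 8 := by rw [Nat.card_eq_fintype_card]; decide

theorem Z_central : ∀ z a : D, InZ z → z * a = a * z := by decide
theorem mem_Z_of_central : ∀ a : D, (∀ b : D, a * b = b * a) → InZ a := by decide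
theorem sq_mem_Z : ∀ a : D, InZ (a * a) := by decide
theorem Z_sq : ∀ z : D, InZ z → z * z = 1 := by decide
theorem Z_U1 : ∀ z : D, InZ z → InU1 z := by decide
theorem U1_inter_U2 : ∀ a : D, InU1 a → InU2 a → InZ a := by decide
theorem c_ne_one : c ≠ (1 : D) := by decide
theorem not_inverting : ∀ a : D, ¬ ∀ e : D, a * e⁻¹ = e * a := by decide
theorem U1_conj : ∀ x a : D, InU1 a → InU1 (x * a * x⁻¹) := by decide
theorem U2_conj : ∀ x a : D, InU2 a → InU2 (x * a * x⁻¹) := by decide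
theorem U1_abelian : ∀ a b : D, InU1 a → InU1 b → a * b = b * a ∧ a * a = 1 := by decide
theorem U2_abelian : ∀ a b : D, InU2 a → InU2 b → a * b = b * a ∧ a * a = 1 := by decide
theorem U_ne : ¬ InU2 u1 ∧ ¬ InU1 u2 ∧ InU1 u1 ∧ InU2 u2 := by decide
theorem c_eq : (u1 * u2) * (u1 * u2) = c := by decide
theorem u1_u2 : u1 * u2 ≠ u2 * u1 := by decide

theorem words : ∀ a : D, a = 1 ∨ a = u1 ∨ a = u2 ∨ a = u1 * u2 ∨ a = u2 * u1 ∨ a = u1 * u2 * u1 ∨
    a = u2 * u1 * u2 ∨ a = u1 * u2 * u1 * u2 := by decide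

/-- A subgroup containing the two generators is everything. -/
theorem eq_top_of_gens (S : Subgroup D) (h1 : u1 ∈ S) (h2 : u2 ∈ S) : S = ⊤ := by
  refine (Subgroup.eq_top_iff' S).mpr fun a => ?_
  rcases words a with h | h | h | h | h | h | h | h <;> rw [h]
  exacts [S.one_mem, h1, h2, S.mul_mem h1 h2, S.mul_mem h2 h1, S.mul_mem (S.mul_mem h1 h2) h1,
    S.mul_mem (S.mul_mem h2 h1) h2, S.mul_mem (S.mul_mem (S.mul_mem h1 h2) h1) h2]

/-- A subgroup of the square containing the four generators is everything. -/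
theorem eq_top_of_gens_prod (S : Subgroup (D × D)) (h1 : (u1, 1) ∈ S) (h2 : (u2, 1) ∈ S)
    (h3 : (1, u1) ∈ S) (h4 : (1, u2) ∈ S) : S = ⊤ := by
  have hl : S.comap (MonoidHom.inl D D) = ⊤ := eq_top_of_gens _ h1 h2
  have hr : S.comap (MonoidHom.inr D D) = ⊤ := eq_top_of_gens _ h3 h4
  refine (Subgroup.eq_top_iff' S).mpr fun x => ?_
  have := S.mul_mem (hl ▸ Subgroup.mem_top x.1 : x.1 ∈ S.comap (MonoidHom.inl D D))
    (hr ▸ Subgroup.mem_top x.2 : x.2 ∈ S.comap (MonoidHom.inr D D))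
  simpa using this

/-- Non-triviality modulo the centre. -/
abbrev chi (a : D) : Bool := decide (¬ InZ a)

theorem commute_iff : ∀ a b : D, InU1 a → InU2 b → ((a * b = b * a) ↔ ¬ (chi a = true ∧ chi b = true)) := by
  decide

theorem of_chi1 : ∀ a : D, InU1 a → (chi a = true → InZ (a * u1⁻¹)) ∧ (chi a = false → InZ (a * 1⁻¹)) := by decide
theorem of_chi2 : ∀ a : D, InU2 a → (chi a = true → InZ (a * u2⁻¹)) ∧ (chi a = false → InZ (a * 1⁻¹)) := by decide

theorem bool_cases : ∀ x y x' y' p q p' q' : Bool,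
    ¬ ((x = true ∧ p' = true) ∨ (y = true ∧ q' = true)) → ((x = true ∧ p = true) ∨ (y = true ∧ q = true)) →
    ¬ ((x' = true ∧ p = true) ∨ (y' = true ∧ q = true)) → ((x' = true ∧ p' = true) ∨ (y' = true ∧ q' = true)) →
    (x = true ∧ y = false ∧ x' = false ∧ y' = true ∧ p = true ∧ q = false ∧ p' = false ∧ q' = true) ∨
    (x = false ∧ y = true ∧ x' = true ∧ y' = false ∧ p = false ∧ q = true ∧ p' = true ∧ q' = false) := by
  intro x y x' y' p q p' q' h1 h2 h3 h4
  have key : ∀ x y x' y' p q p' q' : Bool, ((x && p') || (y && q')) = false → ((x && p) || (y && q)) = true →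
      ((x' && p) || (y' && q)) = false → ((x' && p') || (y' && q')) = true →
      ((x && !y && !x' && y' && p && !q && !p' && q') || (!x && y && x' && !y' && !p && q && p' && !q')) = true := by
    decide
  have := key x y x' y' p q p' q' (by simpa using h1) (by simpa using h2) (by simpa using h3) (by simpa using h4)
  simpa [and_assoc] using this

theorem elem_extend : ∀ a b : D, a * a = 1 → b * b = 1 → a * b = b * a → ¬ InZ a →
    (InU1 a → InU1 b) ∧ (InU2 a → InU2 b) ∧ (InU1 a ∨ InU2 a) := by decide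

/-- Elementary abelian subgroups. -/
theorem elementary (X : Subgroup D) (h1 : ∀ a ∈ X, a * a = 1) (h2 : ∀ a ∈ X, ∀ b ∈ X, a * b = b * a) :
    Nat.card X ≤ 4 ∧ (Nat.card X = 4 → X = U1 ∨ X = U2) := by
  by_cases hX : X ≤ Z
  · have := Subgroup.card_le_of_le hX
    rw [card_Z] at this
    exact ⟨by omega, fun h => by omega⟩
  obtain ⟨x, hx, hxZ⟩ := SetLike.not_le_iff_exists.mp hX
  obtain ⟨-, -, hor⟩ := elem_extend x x (h1 x hx) (h1 x hx) rfl hxZ
  rcases hor with h | h
  · have hle : X ≤ U1 := fun b hb => (elem_extend x b (h1 x hx) (h1 b hb) (h2 x hx b hb) hxZ).1 h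
    have hc := Subgroup.card_le_of_le hle
    rw [card_U1] at hc
    exact ⟨hc, fun h4 => Or.inl (Subgroup.eq_of_le_of_card_ge hle (by rw [card_U1, h4]))⟩
  · have hle : X ≤ U2 := fun b hb => (elem_extend x b (h1 x hx) (h1 b hb) (h2 x hx b hb) hxZ).2.1 h
    have hc := Subgroup.card_le_of_le hle
    rw [card_U2] at hc
    exact ⟨hc, fun h4 => Or.inr (Subgroup.eq_of_le_of_card_ge hle (by rw [card_U2, h4]))⟩

end Cfsg.Agent.Lib.WreathFour
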