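import Cfsg.Agent.Lib.WreathFour.Finite

/-!
# The wreath product of the dihedral group of order eight by a group of order two
-/

set_option autoImplicit false

namespace Cfsg.Agent.Lib.WreathFour

open DihedralGroup

/-- Coordinates on a subgroup isomorphic to the wreath product. -/
structure Coords {S : Type*} [Group S] (P : Subgroup S) where
  ι : D × D →* S
  inj : Function.Injective ι
  t : S
  t_sq : t * t = 1
  swap : ∀ a b : D, t * ι (a, b) * t = ι (b, a)
  t_ne : ∀ x : D × D, ι x ≠ t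
  mem_iff : ∀ s : S, s ∈ P ↔ ∃ x : D × D, s = ι x ∨ s = ι x * t

/-- The natural action on four points. -/
def act : D →* Equiv.Perm (Fin 4) :=
  MonoidHom.mk' (fun d => match d with
    | r (i : Fin 4) => ⟨fun x => x + i, fun x => x - i, fun x => by simp, fun x => by simp⟩
    | sr (i : Fin 4) => ⟨fun x => -x - i, fun x => -x - i, fun x => by simp, fun x => by simp⟩) (by decide)

theorem act_injective : Function.Injective act :=
  (injective_iff_map_eq_one act).mpr fun d h =>
    (by decide : ∀ d : D, (∀ x, act d x = x) → d = 1) d (fun x => by rw [h]; rfl)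

/-- The swap of the two blocks. -/
def tau : Equiv.Perm (Fin 4 ⊕ Fin 4) := Equiv.sumComm _ _

/-- The base of the wreath product. -/
def base : D × D →* Equiv.Perm (Fin 4 ⊕ Fin 4) :=
  (Equiv.Perm.sumCongrHom (Fin 4) (Fin 4)).comp (act.prodMap act)

theorem base_injective : Function.Injective base :=
  (Equiv.Perm.sumCongrHom_injective).comp (Function.Injective.prodMap act_injective act_injective)

theorem base_swap (a b : D) : tau * base (a, b) * tau = base (b, a) := by
  refine Equiv.ext fun x => ?_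
  rcases x with x | x <;> rfl

theorem base_ne (x : D × D) : base x ≠ tau := fun h => by
  have := DFunLike.congr_fun h (Sum.inl 0)
  exact absurd this (by simp [base, tau])

theorem tau_sq : tau * tau = 1 := by
  refine Equiv.ext fun x => ?_
  rcases x with x | x <;> rfl

theorem factorization_eight : (Nat.card (Equiv.Perm (Fin 8))).factorization 2 = 7 := by
  rw [Nat.card_perm, Nat.card_fin, show Nat.factorial 8 = 2 ^ 7 * 315 from rfl,
    Nat.factorization_mul (by norm_num) (by norm_num), Finsupp.add_apply, Nat.prime_two.factorization_pow,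
    Finsupp.single_eq_same, Nat.factorization_eq_zero_of_not_dvd (by norm_num)]

/-- A subgroup isomorphic to a Sylow subgroup of the symmetric group on eight points has coordinates. -/
theorem exists_coords {S : Type*} [Group S] (P : Subgroup S) (T : Sylow 2 (Equiv.Perm (Fin 8)))
    (e : ↥P ≃* ↥(T : Subgroup (Equiv.Perm (Fin 8)))) : Nonempty (Coords P) := by
  classical
  let f : Equiv.Perm (Fin 4 ⊕ Fin 4) ≃* Equiv.Perm (Fin 8) := (finSumFinEquiv : Fin 4 ⊕ Fin 4 ≃ Fin 8).permCongrHom
  let ι₀ : D × D →* Equiv.Perm (Fin 8) := f.toMonoidHom.comp base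
  let t₀ : Equiv.Perm (Fin 8) := f tau
  have hinj : Function.Injective ι₀ := f.injective.comp base_injective
  have ht : t₀ * t₀ = 1 := by rw [← map_mul, tau_sq, map_one]
  have hsw : ∀ a b, t₀ * ι₀ (a, b) * t₀ = ι₀ (b, a) := fun a b => by
    show f tau * f (base (a, b)) * f tau = f (base (b, a))
    rw [← map_mul, ← map_mul, base_swap]
  have hsw' : ∀ a b, t₀ * ι₀ (a, b) = ι₀ (b, a) * t₀ := fun a b => by
    rw [← hsw a b, mul_assoc _ t₀ t₀, ht, mul_one]
  have hne : ∀ x, ι₀ x ≠ t₀ := fun x h => base_ne x (f.injective h)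
  let W : Subgroup (Equiv.Perm (Fin 8)) :=
    { carrier := {s | ∃ x : D × D, s = ι₀ x ∨ s = ι₀ x * t₀}
      mul_mem' := fun {a b} ⟨x, hx⟩ ⟨⟨y1, y2⟩, hy⟩ => by
        rcases hx with rfl | rfl <;> rcases hy with rfl | rfl
        · exact ⟨x * (y1, y2), Or.inl (map_mul _ _ _).symm⟩
        · exact ⟨x * (y1, y2), Or.inr (by rw [map_mul, mul_assoc])⟩
        · exact ⟨x * (y2, y1), Or.inr (by rw [map_mul, mul_assoc, hsw', mul_assoc])⟩
        · exact ⟨x * (y2, y1), Or.inl (by rw [map_mul, mul_assoc, ← mul_assoc t₀, hsw])⟩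
      one_mem' := ⟨1, Or.inl (map_one _).symm⟩
      inv_mem' := fun {a} ⟨⟨x1, x2⟩, hx⟩ => by
        rcases hx with rfl | rfl
        · exact ⟨(x1, x2)⁻¹, Or.inl (map_inv _ _).symm⟩
        · refine ⟨(x2⁻¹, x1⁻¹), Or.inr ?_⟩
          rw [mul_inv_rev, inv_eq_of_mul_eq_one_right ht, ← map_inv, Prod.inv_mk, hsw'] }
  have hW : Nat.card W = 2 ^ 7 := by
    let g : (D × D) × Bool → W := fun x => bif x.2 then ⟨ι₀ x.1 * t₀, x.1, Or.inr rfl⟩ else ⟨ι₀ x.1, x.1, Or.inl rfl⟩
    have hg : Function.Bijective g := by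
      constructor
      · rintro ⟨x, i⟩ ⟨y, j⟩ h
        have h' := congrArg Subtype.val h
        cases i <;> cases j <;> simp only [g, cond_true, cond_false] at h'
        · rw [hinj h']
        · exact absurd (show ι₀ (y⁻¹ * x) = t₀ by rw [map_mul, map_inv, h', inv_mul_cancel_left]) (hne _)
        · exact absurd (show ι₀ (x⁻¹ * y) = t₀ by rw [map_mul, map_inv, ← h', inv_mul_cancel_left]) (hne _)
        · rw [hinj (mul_right_cancel h')]
      · rintro ⟨s, x, rfl | rfl⟩
        exacts [⟨(x, false), rfl⟩, ⟨(x, true), rfl⟩]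
    rw [← Nat.card_congr (Equiv.ofBijective g hg), Nat.card_prod, Nat.card_prod, card_D, Nat.card_eq_fintype_card]
    rfl
  let TW : Sylow 2 (Equiv.Perm (Fin 8)) := Sylow.ofCard W (by rw [factorization_eight, hW])
  let e' : ↥P ≃* ↥W := e.trans (Sylow.equiv T TW)
  let ι : D × D →* S := P.subtype.comp (e'.symm.toMonoidHom.comp (ι₀.codRestrict W (fun x => ⟨x, Or.inl rfl⟩)))
  let tW : W := ⟨t₀, 1, Or.inr (by rw [map_one, one_mul])⟩
  refine ⟨⟨ι, ?_, (e'.symm tW : P), ?_, ?_, ?_, ?_⟩⟩
  · exact P.subtype_injective.comp (e'.symm.injective.comp fun x y h => hinj (congrArg Subtype.val h :))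
  · rw [← Subgroup.coe_mul, ← map_mul, show tW * tW = 1 from Subtype.ext ht, map_one, Subgroup.coe_one]
  · intro a b
    show ((e'.symm tW : P) : S) * (e'.symm _ : P) * (e'.symm tW : P) = (e'.symm _ : P)
    rw [← Subgroup.coe_mul, ← Subgroup.coe_mul, ← map_mul, ← map_mul]
    exact congrArg (fun w => ((e'.symm w : P) : S)) (Subtype.ext (hsw a b))
  · intro x h
    exact hne x (congrArg Subtype.val (e'.symm.injective (P.subtype_injective h)) :)
  · intro s
    constructor
    · intro hs
      obtain ⟨x, hx | hx⟩ := (e' ⟨s, hs⟩).2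
      · exact ⟨x, Or.inl (congrArg Subtype.val ((MulEquiv.eq_symm_apply e').mpr (Subtype.ext hx : e' ⟨s, hs⟩ = ⟨ι₀ x, x, Or.inl rfl⟩)) :)⟩
      · refine ⟨x, Or.inr ?_⟩
        show s = ((e'.symm _ : P) : S) * (e'.symm tW : P)
        rw [← Subgroup.coe_mul, ← map_mul]
        exact (congrArg Subtype.val ((MulEquiv.eq_symm_apply e').mpr
          (Subtype.ext hx : e' ⟨s, hs⟩ = (⟨ι₀ x, x, Or.inl rfl⟩ : W) * tW)) :)
    · rintro ⟨x, rfl | rfl⟩
      · exact (e'.symm _ : P).2
      · exact P.mul_mem (e'.symm _ : P).2 (e'.symm tW : P).2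

end Cfsg.Agent.Lib.WreathFour
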