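import Cfsg.Prelude.Def_Transfer
import Cfsg.Prelude.Def_CaseTheorems
import Cfsg.Agent.Lib.WreathFour.Model

/-!
# The normalizer of a wreathed subgroup in a two-group of sectional rank at most four
-/

set_option autoImplicit false

namespace Cfsg.Agent.Lib.WreathFour

open Subgroup

variable {S : Type*} [Group S] {P : Subgroup S} (C : Coords P)

theorem Coords.ι_mem (x : D × D) : C.ι x ∈ P := (C.mem_iff _).mpr ⟨x, Or.inl rfl⟩

theorem Coords.t_mem : C.t ∈ P := (C.mem_iff _).mpr ⟨1, Or.inr (by rw [map_one, one_mul])⟩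

theorem Coords.t_inv : C.t⁻¹ = C.t := inv_eq_of_mul_eq_one_right C.t_sq

theorem Coords.swap' (x : D × D) : C.t * C.ι x = C.ι (x.2, x.1) * C.t := by
  rw [← C.swap x.1 x.2, mul_assoc _ C.t C.t, C.t_sq, mul_one]

theorem Coords.ι_mul_t_ne (x y : D × D) : C.ι x * C.t ≠ C.ι y := fun h =>
  C.t_ne (x⁻¹ * y) (by rw [map_mul, map_inv, ← h, inv_mul_cancel_left])

theorem Coords.ι_t_comm_iff (a b : D) : C.t * C.ι (a, b) = C.ι (a, b) * C.t ↔ a = b := by
  rw [C.swap']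
  constructor
  · intro h
    exact (congrArg Prod.fst (C.inj (mul_right_cancel h))).symm
  · rintro rfl; rfl

theorem Coords.induction_gens {B : Subgroup S} (h1 : C.ι (u1, 1) ∈ B) (h2 : C.ι (u2, 1) ∈ B)
    (h3 : C.ι (1, u1) ∈ B) (h4 : C.ι (1, u2) ∈ B) (x : D × D) : C.ι x ∈ B :=
  (eq_top_of_gens_prod (B.comap C.ι) h1 h2 h3 h4 ▸ mem_top x : x ∈ B.comap C.ι)

/-- The image of the square of a subgroup. -/
def Coords.sqr (U : Subgroup D) : Subgroup S := (U.prod U).map C.ι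

theorem Coords.mem_sqr {U : Subgroup D} {s : S} : s ∈ C.sqr U ↔ ∃ a ∈ U, ∃ b ∈ U, s = C.ι (a, b) := by
  constructor
  · rintro ⟨⟨a, b⟩, ⟨ha, hb⟩, rfl⟩; exact ⟨a, ha, b, hb, rfl⟩
  · rintro ⟨a, ha, b, hb, rfl⟩; exact ⟨(a, b), ⟨ha, hb⟩, rfl⟩

theorem Coords.card_sqr (U : Subgroup D) : Nat.card (C.sqr U) = Nat.card U * Nat.card U := by
  rw [Coords.sqr, card_map_of_injective C.inj, Nat.card_congr (prodEquiv U U).toEquiv, Nat.card_prod]

/-- An elementary abelian normal subgroup of order sixteen of the subgroup. -/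
def IsBig (P V : Subgroup S) : Prop :=
  V ≤ P ∧ (∀ g ∈ P, ∀ v ∈ V, g * v * g⁻¹ ∈ V) ∧ Cfsg.IsElementaryAbelian 2 V ∧ Nat.card V = 16

theorem Coords.isBig (U : Subgroup D) (hU : U = U1 ∨ U = U2) : IsBig P (C.sqr U) := by
  have hab : ∀ a ∈ U, ∀ b ∈ U, a * b = b * a ∧ a * a = 1 := by
    rcases hU with rfl | rfl
    exacts [fun a ha b hb => U1_abelian a b ha hb, fun a ha b hb => U2_abelian a b ha hb]
  have hconj : ∀ x : D, ∀ a ∈ U, x * a * x⁻¹ ∈ U := by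
    rcases hU with rfl | rfl
    exacts [U1_conj, U2_conj]
  refine ⟨fun s hs => ?_, fun g hg v hv => ?_, ⟨⟨⟨fun v w => ?_⟩⟩, fun v hv => ?_⟩, ?_⟩
  · obtain ⟨a, -, b, -, rfl⟩ := C.mem_sqr.mp hs
    exact C.ι_mem _
  · obtain ⟨a, ha, b, hb, rfl⟩ := C.mem_sqr.mp hv
    obtain ⟨⟨x, y⟩, rfl | rfl⟩ := (C.mem_iff g).mp hg
    · rw [← map_inv, ← map_mul, ← map_mul]
      exact C.mem_sqr.mpr ⟨_, hconj x a ha, _, hconj y b hb, rfl⟩
    · rw [mul_inv_rev, C.t_inv, show C.ι (x, y) * C.t * C.ι (a, b) * (C.t * (C.ι (x, y))⁻¹)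
        = C.ι (x, y) * (C.t * C.ι (a, b) * C.t) * (C.ι (x, y))⁻¹ by group, C.swap, ← map_inv, ← map_mul, ← map_mul]
      exact C.mem_sqr.mpr ⟨_, hconj x b hb, _, hconj y a ha, rfl⟩
  · obtain ⟨a, ha, b, hb, hv⟩ := C.mem_sqr.mp v.2
    obtain ⟨a', ha', b', hb', hw⟩ := C.mem_sqr.mp w.2
    apply Subtype.ext
    show (v : S) * w = w * v
    rw [hv, hw, ← map_mul, ← map_mul, Prod.mk_mul_mk, Prod.mk_mul_mk, (hab a ha a' ha').1, (hab b hb b' hb').1]
  · obtain ⟨a, ha, b, hb, rfl⟩ := C.mem_sqr.mp hv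
    rw [sq, ← map_mul, Prod.mk_mul_mk, (hab a ha a ha).2, (hab b hb b hb).2]
    exact map_one _
  · rw [C.card_sqr]
    rcases hU with rfl | rfl
    · rw [card_U1]
    · rw [card_U2]

theorem Coords.classify (C : Coords P) {V : Subgroup S} (hV : IsBig P V) :
    V = C.sqr U1 ∨ V = C.sqr U2 := by
  obtain ⟨hVP, hVn, ⟨⟨⟨hVc⟩⟩, hV2⟩, hV16⟩ := hV
  have hcomm : ∀ v ∈ V, ∀ w ∈ V, v * w = w * v := fun v hv w hw => congrArg Subtype.val (hVc ⟨v, hv⟩ ⟨w, hw⟩)
  let W : Subgroup (D × D) := V.comap C.ι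
  haveI : Finite W := inferInstance
  have hWc : ∀ x ∈ W, ∀ y ∈ W, x * y = y * x := fun x hx y hy => C.inj (by
    rw [map_mul, map_mul]; exact hcomm _ hx _ hy)
  have hW2 : ∀ x ∈ W, x * x = 1 := fun x hx => C.inj (by
    rw [map_mul, map_one, ← sq]; exact hV2 _ hx)
  have hel1 := elementary (W.map (MonoidHom.fst D D))
    (by rintro _ ⟨x, hx, rfl⟩; exact congrArg Prod.fst (hW2 x hx))
    (by rintro _ ⟨x, hx, rfl⟩ _ ⟨y, hy, rfl⟩; exact congrArg Prod.fst (hWc x hx y hy))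
  have hel2 := elementary (W.map (MonoidHom.snd D D))
    (by rintro _ ⟨x, hx, rfl⟩; exact congrArg Prod.snd (hW2 x hx))
    (by rintro _ ⟨x, hx, rfl⟩ _ ⟨y, hy, rfl⟩; exact congrArg Prod.snd (hWc x hx y hy))
  by_cases hB : ∀ v ∈ V, ∃ x, v = C.ι x
  · have hVW : V = W.map C.ι := by
      refine le_antisymm (fun v hv => ?_) (map_comap_le _ _)
      obtain ⟨x, rfl⟩ := hB v hv
      exact ⟨x, hv, rfl⟩
    have hWcard : Nat.card W = 16 := by rw [← hV16, hVW, card_map_of_injective C.inj]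
    set X1 := W.map (MonoidHom.fst D D)
    set X2 := W.map (MonoidHom.snd D D)
    have hle : W ≤ X1.prod X2 := fun x hx => ⟨⟨x, hx, rfl⟩, ⟨x, hx, rfl⟩⟩
    have hmul : Nat.card (X1.prod X2) = Nat.card X1 * Nat.card X2 := by
      rw [Nat.card_congr (prodEquiv X1 X2).toEquiv, Nat.card_prod]
    have h16 := card_le_of_le hle
    rw [hWcard, hmul] at h16
    have h1 : Nat.card X1 = 4 := by nlinarith [hel1.1, hel2.1]
    have h2 : Nat.card X2 = 4 := by nlinarith [hel1.1, hel2.1]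
    have hWeq : W = X1.prod X2 := eq_of_le_of_card_ge hle (by rw [hWcard, hmul, h1, h2])
    have hX : X1 = X2 := by
      refine eq_of_le_of_card_ge (fun a ha => ?_) (by rw [h1, h2])
      have h : (a, 1) ∈ W := hWeq ▸ ⟨ha, one_mem _⟩
      have h' : (1, a) ∈ W := by
        show C.ι (1, a) ∈ V
        rw [← C.swap a 1]
        have := hVn _ C.t_mem _ h
        rwa [C.t_inv] at this
      exact ⟨_, h', rfl⟩
    rcases hel1.2 h1 with h | h
    · exact Or.inl (by rw [hVW, hWeq, ← hX, h]; rfl)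
    · exact Or.inr (by rw [hVW, hWeq, ← hX, h]; rfl)
  · exfalso
    push Not at hB
    obtain ⟨v₀, hv₀, hv₀B⟩ := hB
    obtain ⟨⟨b₁, b₂⟩, rfl | rfl⟩ := (C.mem_iff v₀).mp (hVP hv₀)
    · exact hv₀B _ rfl
    have hWle : Nat.card W ≤ 4 := by
      refine le_trans ?_ hel1.1
      refine Nat.card_le_card_of_injective (fun x => (⟨x.1.1, x.1, x.2, rfl⟩ : W.map (MonoidHom.fst D D))) ?_
      intro x y hxy
      have hz : x.1 * y.1⁻¹ ∈ W := mul_mem x.2 (inv_mem y.2)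
      have h1 : (x.1 * y.1⁻¹).1 = 1 := mul_inv_eq_one.mpr (congrArg Subtype.val hxy :)
      obtain ⟨z, hz1⟩ : ∃ z, x.1 * y.1⁻¹ = (1, z) := ⟨_, Prod.ext h1 rfl⟩
      rw [hz1] at hz
      have h3 := hcomm _ hv₀ _ (hz : C.ι (1, z) ∈ V)
      rw [mul_assoc, C.swap', ← mul_assoc, ← map_mul, ← mul_assoc, ← map_mul] at h3
      have h4 := congrArg Prod.fst (C.inj (mul_right_cancel h3))
      simp only [Prod.fst_mul, one_mul, mul_eq_left] at h4
      subst h4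
      exact Subtype.ext (mul_inv_eq_one.mp hz1)
    have key : Nat.card V ≤ Nat.card (W × Bool) := by
      have he : ∀ v : V, ∃ y : W × Bool,
          bif y.2 then (v : S) * (C.ι (b₁, b₂) * C.t) = C.ι y.1.1 else (v : S) = C.ι y.1.1 := by
        intro v
        obtain ⟨y, hy | hy⟩ := (C.mem_iff _).mp (hVP v.2)
        · exact ⟨(⟨y, show C.ι y ∈ V by rw [← hy]; exact v.2⟩, false), hy⟩
        · have h : (v : S) * (C.ι (b₁, b₂) * C.t) = C.ι (y * (b₂, b₁)) := by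
            rw [hy, mul_assoc, ← mul_assoc C.t, C.swap, map_mul]
          exact ⟨(⟨_, show C.ι (y * (b₂, b₁)) ∈ V by rw [← h]; exact mul_mem v.2 hv₀⟩, true), h⟩
      choose f hf using he
      refine Nat.card_le_card_of_injective f fun v w hvw => ?_
      have h1 := hf v
      have h2 := hf w
      rw [hvw] at h1
      apply Subtype.ext
      cases hb : (f w).2 <;> rw [hb] at h1 h2 <;> simp only [cond_true, cond_false] at h1 h2
      · rw [h1, h2]
      · exact mul_right_cancel (h1.trans h2.symm)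
    rw [hV16, Nat.card_prod, Nat.card_eq_fintype_card (α := Bool), Fintype.card_bool] at key
    omega

/-- An automorphism fixing the two elementary subgroups is congruent to the identity or to the swap. -/
theorem congr_cases (α : D × D →* D × D) (hα : Function.Injective α)
    (h1 : ∀ x ∈ U1.prod U1, α x ∈ U1.prod U1) (h2 : ∀ x ∈ U2.prod U2, α x ∈ U2.prod U2) :
    (∀ x, α x * x⁻¹ ∈ Z.prod Z) ∨ (∀ x, ((α x).2, (α x).1) * x⁻¹ ∈ Z.prod Z) := by
  have hU := U_ne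
  obtain ⟨hx, hy⟩ := h1 (u1, 1) ⟨hU.2.2.1, one_mem _⟩
  obtain ⟨hx', hy'⟩ := h1 (1, u1) ⟨one_mem _, hU.2.2.1⟩
  obtain ⟨hp, hq⟩ := h2 (u2, 1) ⟨hU.2.2.2, one_mem _⟩
  obtain ⟨hp', hq'⟩ := h2 (1, u2) ⟨one_mem _, hU.2.2.2⟩
  have key : ∀ a b : D × D, a.1 ∈ U1 → a.2 ∈ U1 → b.1 ∈ U2 → b.2 ∈ U2 →
      ((chi a.1 = true ∧ chi b.1 = true) ∨ (chi a.2 = true ∧ chi b.2 = true) ↔ a * b ≠ b * a) := by
    intro a b ha1 ha2 hb1 hb2
    rw [Ne, Prod.ext_iff, Prod.fst_mul, Prod.fst_mul, Prod.snd_mul, Prod.snd_mul,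
      commute_iff _ _ ha1 hb1, commute_iff _ _ ha2 hb2]
    tauto
  have hne1 : α (u1, 1) * α (u2, 1) ≠ α (u2, 1) * α (u1, 1) := fun h => by
    rw [← map_mul, ← map_mul] at h
    exact u1_u2 (congrArg Prod.fst (hα h))
  have hne2 : α (1, u1) * α (1, u2) ≠ α (1, u2) * α (1, u1) := fun h => by
    rw [← map_mul, ← map_mul] at h
    exact u1_u2 (congrArg Prod.snd (hα h))
  have heq1 : α (u1, 1) * α (1, u2) = α (1, u2) * α (u1, 1) := by
    rw [← map_mul, ← map_mul]; simp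
  have heq2 : α (1, u1) * α (u2, 1) = α (u2, 1) * α (1, u1) := by
    rw [← map_mul, ← map_mul]; simp
  have hZc : ∀ z ∈ Z.prod Z, ∀ x : D × D, z * x = x * z := fun z hz x =>
    Prod.ext (Z_central _ _ hz.1) (Z_central _ _ hz.2)
  have top : ∀ f : D × D →* D × D, f (u1, 1) * (u1, 1)⁻¹ ∈ Z.prod Z → f (u2, 1) * (u2, 1)⁻¹ ∈ Z.prod Z →
      f (1, u1) * (1, u1)⁻¹ ∈ Z.prod Z → f (1, u2) * (1, u2)⁻¹ ∈ Z.prod Z → ∀ x, f x * x⁻¹ ∈ Z.prod Z := by
    intro f g1 g2 g3 g4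
    let S0 : Subgroup (D × D) :=
      { carrier := {x | f x * x⁻¹ ∈ Z.prod Z}
        mul_mem' := fun {x y} hx hy => by
          show f (x * y) * (x * y)⁻¹ ∈ Z.prod Z
          rw [map_mul, mul_inv_rev, show f x * f y * (y⁻¹ * x⁻¹) = f x * (f y * y⁻¹ * x⁻¹) by group,
            hZc _ hy x⁻¹, ← mul_assoc]
          exact mul_mem hx hy
        one_mem' := by show f 1 * 1⁻¹ ∈ Z.prod Z; rw [map_one, inv_one, mul_one]; exact one_mem _
        inv_mem' := fun {x} hx => by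
          show f x⁻¹ * x⁻¹⁻¹ ∈ Z.prod Z
          have hx' : f x * x⁻¹ ∈ Z.prod Z := hx
          have h := inv_mem hx'
          have h' := hZc _ h (f x)⁻¹
          rw [mul_inv_rev, inv_inv] at h h'
          rw [map_inv, inv_inv, show (f x)⁻¹ * x = (f x)⁻¹ * (x * (f x)⁻¹) * f x by group, ← h',
            inv_mul_cancel_right]
          exact h }
    exact fun x => (eq_top_of_gens_prod S0 g1 g2 g3 g4 ▸ mem_top x : x ∈ S0)
  rcases bool_cases _ _ _ _ _ _ _ _ (fun h => ((key _ _ hx hy hp' hq').mp h) heq1)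
      ((key _ _ hx hy hp hq).mpr hne1) (fun h => ((key _ _ hx' hy' hp hq).mp h) heq2)
      ((key _ _ hx' hy' hp' hq').mpr hne2) with
    ⟨a1, a2, a3, a4, a5, a6, a7, a8⟩ | ⟨a1, a2, a3, a4, a5, a6, a7, a8⟩
  · exact Or.inl (top α ⟨(of_chi1 _ hx).1 a1, (of_chi1 _ hy).2 a2⟩ ⟨(of_chi2 _ hp).1 a5, (of_chi2 _ hq).2 a6⟩
      ⟨(of_chi1 _ hx').2 a3, (of_chi1 _ hy').1 a4⟩ ⟨(of_chi2 _ hp').2 a7, (of_chi2 _ hq').1 a8⟩)
  · refine Or.inr (top (((MonoidHom.snd D D).comp α).prod ((MonoidHom.fst D D).comp α)) ?_ ?_ ?_ ?_)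
    · exact ⟨(of_chi1 _ hy).1 a2, (of_chi1 _ hx).2 a1⟩
    · exact ⟨(of_chi2 _ hq).1 a6, (of_chi2 _ hp).2 a5⟩
    · exact ⟨(of_chi1 _ hy').2 a4, (of_chi1 _ hx').1 a3⟩
    · exact ⟨(of_chi2 _ hq').2 a8, (of_chi2 _ hp').1 a7⟩

theorem Coords.conj_mem_range (C : Coords P) {g : S}
    (h1 : ∀ v ∈ C.sqr U1, g * v * g⁻¹ ∈ C.ι.range) (h2 : ∀ v ∈ C.sqr U2, g * v * g⁻¹ ∈ C.ι.range) (x : D × D) :
    g * C.ι x * g⁻¹ ∈ C.ι.range := by
  have hU := U_ne
  refine C.induction_gens (B := C.ι.range.comap (MulAut.conj g).toMonoidHom)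
    (h1 _ (C.mem_sqr.mpr ⟨_, hU.2.2.1, _, one_mem _, rfl⟩))
    (h2 _ (C.mem_sqr.mpr ⟨_, hU.2.2.2, _, one_mem _, rfl⟩))
    (h1 _ (C.mem_sqr.mpr ⟨_, one_mem _, _, hU.2.2.1, rfl⟩))
    (h2 _ (C.mem_sqr.mpr ⟨_, one_mem _, _, hU.2.2.2, rfl⟩)) x

/-- The image of a big subgroup under an element of the normalizer. -/
theorem isBig_conj {V : Subgroup S} (hV : IsBig P V) {g : S} (hg : g ∈ normalizer (P : Set S)) :
    IsBig P (V.map (MulAut.conj g).toMonoidHom) := by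
  obtain ⟨hVP, hVn, ⟨⟨⟨hVc⟩⟩, hV2⟩, hV16⟩ := hV
  refine ⟨?_, fun h hh v hv => ?_, ⟨⟨⟨fun v w => ?_⟩⟩, fun v hv => ?_⟩,
    by rw [card_map_of_injective (MulAut.conj g).injective, hV16]⟩
  · rintro _ ⟨v, hv, rfl⟩
    exact (mem_normalizer_iff.mp hg v).mp (hVP hv)
  · obtain ⟨v, hv, rfl⟩ := hv
    refine ⟨g⁻¹ * h * g * v * (g⁻¹ * h * g)⁻¹, hVn _ ((mem_normalizer_iff.mp hg _).mpr ?_) v hv, ?_⟩
    · rwa [show g * (g⁻¹ * h * g) * g⁻¹ = h by group]
    · simp [mul_assoc]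
  · obtain ⟨a, ha, hav⟩ := v.2
    obtain ⟨b, hb, hbw⟩ := w.2
    apply Subtype.ext
    show (v : S) * w = w * v
    rw [← hav, ← hbw, ← map_mul, ← map_mul]
    exact congrArg _ (congrArg Subtype.val (hVc ⟨a, ha⟩ ⟨b, hb⟩))
  · obtain ⟨a, ha, rfl⟩ := hv
    rw [← map_pow, hV2 a ha, map_one]

variable [Finite S]

/-- The central argument. -/
theorem Coords.mem_of_fix (C : Coords P) (h2 : IsPGroup 2 S) (hr : Cfsg.SectionalPRankLE 2 4 S) {g : S}
    (hgP : g ∈ normalizer (P : Set S)) (hgV : (C.sqr U1).map (MulAut.conj g).toMonoidHom = C.sqr U1) :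
    g ∈ P := by
  classical
  by_contra hg
  have hpow : ∀ n : ℕ, (C.sqr U1).map (MulAut.conj (g ^ n)).toMonoidHom = C.sqr U1 := by
    intro n
    induction n with
    | zero => rw [pow_zero, map_one]; exact map_id _
    | succ n ih =>
      rw [pow_succ', map_mul, show (MulAut.conj g * MulAut.conj (g ^ n)).toMonoidHom
        = (MulAut.conj g).toMonoidHom.comp (MulAut.conj (g ^ n)).toMonoidHom from rfl, ← map_map, ih, hgV]
  have hex : ∃ i : ℕ, g ^ (2 ^ i) ∈ P := by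
    obtain ⟨k, hk⟩ := h2 g
    exact ⟨k, by rw [hk]; exact one_mem _⟩
  obtain ⟨i, hi⟩ : ∃ i, Nat.find hex = i + 1 := Nat.exists_eq_succ_of_ne_zero fun h => by
    have := Nat.find_spec hex
    rw [h, pow_zero, pow_one] at this
    exact hg this
  set g0 := g ^ (2 ^ i)
  have hg0 : g0 ∉ P := Nat.find_min hex (by omega)
  have hg0sq : g0 * g0 ∈ P := by
    rw [← pow_add, ← two_mul, ← pow_succ', ← hi]; exact Nat.find_spec hex
  have hg0P : g0 ∈ normalizer (P : Set S) := pow_mem hgP _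
  -- the action on the base
  obtain ⟨h1img, h2img⟩ : (C.sqr U1).map (MulAut.conj g0).toMonoidHom = C.sqr U1 ∧
      (C.sqr U2).map (MulAut.conj g0).toMonoidHom = C.sqr U2 := by
    refine ⟨hpow _, ?_⟩
    rcases C.classify (isBig_conj (C.isBig U2 (Or.inr rfl)) hg0P) with h | h
    · exfalso
      have := map_injective (MulAut.conj g0).injective (h.trans (hpow _).symm)
      obtain ⟨a, ha, b, -, hab⟩ := C.mem_sqr.mp (this ▸ C.mem_sqr.mpr ⟨u2, U_ne.2.2.2, 1, one_mem _, rfl⟩ :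
        C.ι (u2, 1) ∈ C.sqr U1)
      have e : u2 = a := congrArg Prod.fst (C.inj hab)
      exact U_ne.2.1 (e ▸ ha : u2 ∈ U1)
    · exact h
  have hrange : ∀ x, g0 * C.ι x * g0⁻¹ ∈ C.ι.range := C.conj_mem_range
    (fun v hv => map_le_range C.ι _ (h1img.le ⟨v, hv, rfl⟩ : _))
    (fun v hv => map_le_range C.ι _ (h2img.le ⟨v, hv, rfl⟩ : _))
  let α : D × D →* D × D := (MonoidHom.ofInjective C.inj).symm.toMonoidHom.comp
    (((MulAut.conj g0).toMonoidHom.comp C.ι).codRestrict C.ι.range hrange)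
  have hαι : ∀ x, C.ι (α x) = g0 * C.ι x * g0⁻¹ := fun x =>
    MonoidHom.apply_ofInjective_symm C.inj _
  have hαinj : Function.Injective α := fun x y h => C.inj (by
    have := congrArg C.ι h
    rw [hαι, hαι] at this
    exact mul_left_cancel (mul_right_cancel this))
  have hαU : ∀ U : Subgroup D, (C.sqr U).map (MulAut.conj g0).toMonoidHom = C.sqr U →
      ∀ x ∈ U.prod U, α x ∈ U.prod U := by
    intro U hU x hx
    obtain ⟨y, hy, hyx⟩ : C.ι (α x) ∈ C.sqr U := by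
      rw [hαι]; exact hU.le ⟨_, ⟨x, hx, rfl⟩, rfl⟩
    rwa [← C.inj hyx]
  -- an element inducing a central automorphism
  obtain ⟨g1, hg1, hg1sq, β, hβι, hβ⟩ : ∃ g1, g1 ∉ P ∧ g1 * g1 ∈ P ∧ ∃ β : D × D →* D × D,
      (∀ x, C.ι (β x) = g1 * C.ι x * g1⁻¹) ∧ ∀ x, β x * x⁻¹ ∈ Z.prod Z := by
    rcases congr_cases α hαinj (hαU U1 h1img) (hαU U2 h2img) with h | h
    · exact ⟨g0, hg0, hg0sq, α, hαι, h⟩
    · refine ⟨C.t * g0, fun hm => hg0 ((mul_mem_cancel_left C.t_mem).mp hm), ?_,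
        ((MonoidHom.snd D D).comp α).prod ((MonoidHom.fst D D).comp α), fun x => ?_, h⟩
      · rw [show C.t * g0 * (C.t * g0) = C.t * (g0 * C.t * g0⁻¹) * (g0 * g0) by group]
        exact mul_mem (mul_mem C.t_mem ((mem_normalizer_iff.mp hg0P _).mp C.t_mem)) hg0sq
      · show C.ι ((α x).2, (α x).1) = _
        rw [← C.swap (α x).1 (α x).2, Prod.mk.eta, hαι, mul_inv_rev, C.t_inv]
        group
  have hβZ : ∀ z ∈ Z.prod Z, β z = z := by
    have hgen : ∀ x y : D × D, β ((x * y) * (x * y)) = (x * y) * (x * y) := fun x y => by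
      obtain ⟨z, hz, hzx⟩ : ∃ z ∈ Z.prod Z, β (x * y) = z * (x * y) :=
        ⟨_, hβ (x * y), by rw [inv_mul_cancel_right]⟩
      have hzc : ∀ w : D × D, z * w = w * z := fun w => Prod.ext (Z_central _ _ hz.1) (Z_central _ _ hz.2)
      rw [map_mul β (x * y), hzx, show z * (x * y) * (z * (x * y)) = z * ((x * y) * z) * (x * y) by group, ← hzc,
        ← mul_assoc z z, show z * z = 1 from Prod.ext (Z_sq _ hz.1) (Z_sq _ hz.2), one_mul]
    have hc1 := hgen (u1, 1) (u2, 1)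
    have hc2 := hgen (1, u1) (1, u2)
    simp only [Prod.mk_mul_mk, one_mul, c_eq] at hc1 hc2
    rintro ⟨z1, z2⟩ ⟨hz1, hz2⟩
    rw [show (z1, z2) = ((z1, 1) : D × D) * (1, z2) by simp, map_mul]
    congr 1
    · rcases hz1 with rfl | rfl
      exacts [map_one β, hc1]
    · rcases hz2 with rfl | rfl
      exacts [map_one β, hc2]
  have hβ2 : ∀ x, β (β x) = x := fun x => by
    obtain ⟨z, hz, hzx⟩ : ∃ z ∈ Z.prod Z, β x = z * x := ⟨_, hβ x, by rw [inv_mul_cancel_right]⟩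
    rw [hzx, map_mul, hβZ z hz, hzx, ← mul_assoc, show z * z = 1 from Prod.ext (Z_sq _ hz.1) (Z_sq _ hz.2), one_mul]
  have hcen : ∀ x, g1 * g1 * C.ι x = C.ι x * (g1 * g1) := fun x => by
    have := hβι (β x)
    rw [hβ2, hβι] at this
    conv_rhs => rw [this]
    group
  obtain ⟨b, hb, hbsq⟩ : ∃ b ∈ Z.prod Z, g1 * g1 = C.ι b := by
    obtain ⟨b, h | h⟩ := (C.mem_iff _).mp hg1sq
    · have hbc : ∀ x, b * x = x * b := fun x => C.inj (by rw [map_mul, map_mul, ← h]; exact hcen x)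
      exact ⟨b, ⟨mem_Z_of_central _ fun d => congrArg Prod.fst (hbc (d, 1)),
        mem_Z_of_central _ fun d => congrArg Prod.snd (hbc (1, d))⟩, h⟩
    · exfalso
      have h1 := hcen (c, 1)
      rw [h, mul_assoc, C.swap', ← mul_assoc, ← map_mul, ← mul_assoc, ← map_mul] at h1
      have h3 := congrArg Prod.fst (C.inj (mul_right_cancel h1))
      simp only [Prod.fst_mul, mul_one] at h3
      exact c_ne_one (mul_eq_right.mp h3.symm)
  have hg1ι : ∀ x, g1 * C.ι x = C.ι (β x) * g1 := fun x => by rw [hβι, inv_mul_cancel_right]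
  have hne : ∀ x y, C.ι x * g1 ≠ C.ι y := fun x y h => hg1 (by
    rw [show g1 = (C.ι x)⁻¹ * C.ι y by rw [← h, inv_mul_cancel_left]]
    exact mul_mem (inv_mem (C.ι_mem x)) (C.ι_mem y))
  let K : Subgroup S :=
    { carrier := {s | ∃ x : D × D, s = C.ι x ∨ s = C.ι x * g1}
      mul_mem' := fun {a a'} ⟨x, hx⟩ ⟨y, hy⟩ => by
        rcases hx with rfl | rfl <;> rcases hy with rfl | rfl
        · exact ⟨x * y, Or.inl (map_mul _ _ _).symm⟩
        · exact ⟨x * y, Or.inr (by rw [map_mul, mul_assoc])⟩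
        · exact ⟨x * β y, Or.inr (by rw [map_mul, mul_assoc, hg1ι, mul_assoc])⟩
        · exact ⟨x * β y * b, Or.inl (by rw [map_mul, map_mul, ← hbsq, mul_assoc, ← mul_assoc g1, hg1ι]; group)⟩
      one_mem' := ⟨1, Or.inl (map_one _).symm⟩
      inv_mem' := fun {a} ⟨x, hx⟩ => by
        rcases hx with rfl | rfl
        · exact ⟨x⁻¹, Or.inl (map_inv _ _).symm⟩
        · refine ⟨b⁻¹ * β x⁻¹, Or.inr ?_⟩
          rw [map_mul, map_inv, ← hbsq, hβι, map_inv]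
          group }
  let L : Subgroup K := ((Z.prod Z).map C.ι).subgroupOf K
  haveI : L.Normal := by
    refine ⟨fun l hl s => ?_⟩
    obtain ⟨z, hz, hzl⟩ := hl
    have hz' : ∀ x, C.ι x * C.ι z = C.ι z * C.ι x := fun x => by
      rw [← map_mul, ← map_mul]
      exact congrArg _ (Prod.ext (Z_central _ _ hz.1).symm (Z_central _ _ hz.2).symm)
    have hg : g1 * C.ι z = C.ι z * g1 := by rw [hg1ι, hβZ z hz]
    refine ⟨z, hz, ?_⟩
    change C.ι z = (s : S) * l * (s : S)⁻¹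
    rw [← show C.ι z = (l : S) from hzl]
    obtain ⟨x, hx | hx⟩ := s.2
    · rw [hx, hz', mul_inv_cancel_right]
    · rw [hx, mul_assoc (C.ι x), hg, ← mul_assoc, hz', mul_assoc (C.ι z), mul_inv_cancel_right]
  have hsq : ∀ s : K, s * s ∈ L := by
    rintro ⟨s, x, rfl | rfl⟩
    · exact ⟨x * x, ⟨sq_mem_Z _, sq_mem_Z _⟩, map_mul _ _ _⟩
    · refine ⟨x * β x * b, ?_, ?_⟩
      · refine mul_mem ?_ hb
        obtain ⟨z, hz, hzx⟩ : ∃ z ∈ Z.prod Z, β x = z * x := ⟨_, hβ x, by rw [inv_mul_cancel_right]⟩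
        rw [hzx, ← mul_assoc, ← show z * x = x * z from Prod.ext (Z_central _ _ hz.1) (Z_central _ _ hz.2),
          mul_assoc]
        exact mul_mem hz ⟨sq_mem_Z _, sq_mem_Z _⟩
      · show C.ι (x * β x * b) = C.ι x * g1 * (C.ι x * g1)
        rw [map_mul, map_mul, ← hbsq, mul_assoc (C.ι x) g1, ← mul_assoc g1, hg1ι]; group
  have hexp : ∀ v : K ⧸ L, v * v = 1 := fun v => by
    obtain ⟨s, rfl⟩ := QuotientGroup.mk_surjective v
    rw [← QuotientGroup.mk_mul, QuotientGroup.eq_one_iff]; exact hsq s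
  have hcard := hr K L ⊤ ⟨⟨fun v w => by
    apply Subtype.ext
    show (v : K ⧸ L) * w = w * v
    have hi : ∀ u : K ⧸ L, u⁻¹ = u := fun u => inv_eq_of_mul_eq_one_right (hexp u)
    rw [← hi ((v : K ⧸ L) * w), mul_inv_rev, hi, hi]⟩⟩ (fun v _ => by rw [sq]; exact hexp v)
  rw [card_top] at hcard
  have hK : Nat.card K = 128 := by
    let f : (D × D) × Bool → K := fun x => bif x.2 then ⟨C.ι x.1 * g1, x.1, Or.inr rfl⟩ else ⟨C.ι x.1, x.1, Or.inl rfl⟩
    have hf : Function.Bijective f := by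
      constructor
      · rintro ⟨x, i⟩ ⟨y, j⟩ h
        have h' := congrArg Subtype.val h
        cases i <;> cases j <;> simp only [f, cond_true, cond_false] at h'
        · rw [C.inj h']
        · exact absurd h'.symm (hne y x)
        · exact absurd h' (hne x y)
        · rw [C.inj (mul_right_cancel h')]
      · rintro ⟨s, x, rfl | rfl⟩
        exacts [⟨(x, false), rfl⟩, ⟨(x, true), rfl⟩]
    rw [← Nat.card_congr (Equiv.ofBijective f hf), Nat.card_prod, Nat.card_prod, card_D, Nat.card_eq_fintype_card]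
    rfl
  have hL : Nat.card L = 4 := by
    rw [Nat.card_congr (subgroupOfEquivOfLe (by
      rintro _ ⟨z, -, rfl⟩; exact ⟨z, Or.inl rfl⟩)).toEquiv, card_map_of_injective C.inj,
      Nat.card_congr (prodEquiv Z Z).toEquiv, Nat.card_prod, card_Z]
  have := L.card_mul_index
  rw [hK, hL, index_eq_card] at this
  omega

theorem Coords.fix_of_two (C : Coords P) {g : S} (hgP : g ∈ normalizer (P : Set S))
    (hgV : (C.sqr U2).map (MulAut.conj g).toMonoidHom = C.sqr U2) :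
    (C.sqr U1).map (MulAut.conj g).toMonoidHom = C.sqr U1 := by
  rcases C.classify (isBig_conj (C.isBig U1 (Or.inl rfl)) hgP) with h | h
  · exact h
  · exfalso
    have := map_injective (MulAut.conj g).injective (h.trans hgV.symm)
    obtain ⟨a, ha, b, -, hab⟩ := C.mem_sqr.mp (this ▸ C.mem_sqr.mpr ⟨u1, U_ne.2.2.1, 1, one_mem _, rfl⟩ :
      C.ι (u1, 1) ∈ C.sqr U2)
    have e : u1 = a := congrArg Prod.fst (C.inj hab)
    exact U_ne.1 (e ▸ ha : u1 ∈ U2)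

end Cfsg.Agent.Lib.WreathFour
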