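import Cfsg.Agent.Lib.WreathFour.Main

/-!
# The structure of the normalizer
-/

set_option autoImplicit false

namespace Cfsg.Agent.Lib.WreathFour

open Subgroup

variable {S : Type*} [Group S] [Finite S] {P : Subgroup S} (C : Coords P)
include C

theorem Coords.lt_normalizer (h2 : IsPGroup 2 S) (hlt : P ≠ ⊤) : ∃ g ∈ normalizer (P : Set S), g ∉ P := by
  haveI := h2.isNilpotent
  exact SetLike.exists_of_lt (Group.normalizerCondition_of_isNilpotent P hlt.lt_top)

theorem Coords.normalizer_big (h2 : IsPGroup 2 S) (hr : Cfsg.SectionalPRankLE 2 4 S) {V : Subgroup S}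
    (hV : IsBig P V) : normalizer (V : Set S) = P := by
  have hle : P ≤ normalizer (V : Set S) := fun g hg => by
    refine mem_normalizer_iff.mpr fun v => ⟨fun hv => hV.2.1 g hg v hv, fun hv => ?_⟩
    have := hV.2.1 g⁻¹ (inv_mem hg) _ hv
    simpa [mul_assoc] using this
  refine le_antisymm ?_ hle
  by_contra hnot
  set W := normalizer (V : Set S)
  haveI := (h2.to_subgroup W).isNilpotent
  have hne : P.subgroupOf W ≠ ⊤ := fun h => hnot (subgroupOf_eq_top.mp h)
  obtain ⟨g, hg, hgP⟩ := SetLike.exists_of_lt (Group.normalizerCondition_of_isNilpotent (P.subgroupOf W) hne.lt_top)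
  have hgN : (g : S) ∈ normalizer (P : Set S) := by
    refine mem_normalizer_iff.mpr fun x => ?_
    constructor
    · intro hx
      exact (mem_normalizer_iff.mp hg ⟨x, hle hx⟩).mp hx
    · intro hx
      have h := (mem_normalizer_iff.mp (inv_mem hg) ⟨(g : S) * x * (g : S)⁻¹, hle hx⟩).mp hx
      change ((g⁻¹ : W) : S) * ((g : S) * x * (g : S)⁻¹) * (((g⁻¹ : W) : S))⁻¹ ∈ P at h
      simpa [mul_assoc] using h
  have hfix : V.map (MulAut.conj (g : S)).toMonoidHom = V := by
    refine eq_of_le_of_card_ge ?_ (card_map_of_injective (MulAut.conj (g : S)).injective).ge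
    rintro _ ⟨v, hv, rfl⟩
    exact (mem_normalizer_iff.mp g.2 v).mp hv
  refine hgP (C.mem_of_fix h2 hr hgN ?_)
  rcases C.classify hV with rfl | rfl
  · exact hfix
  · exact C.fix_of_two hgN hfix

theorem Coords.centre_eq (h2 : IsPGroup 2 S) (hr : Cfsg.SectionalPRankLE 2 4 S) :
    center S = (center P).map P.subtype ∧ Nat.card (center S) = 2 ∧ C.ι (c, c) ∈ center S := by
  classical
  have hmemP : ∀ z ∈ center S, z ∈ P := fun z hz => by
    refine (C.normalizer_big h2 hr (C.isBig U1 (Or.inl rfl))).le ?_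
    refine mem_normalizer_iff.mpr fun v => ?_
    rw [← mem_center_iff.mp hz v, mul_inv_cancel_right]
  have hd : ∀ z ∈ (center P).map P.subtype, z = 1 ∨ z = C.ι (c, c) := by
    rintro _ ⟨⟨z, hzP⟩, hz, rfl⟩
    have hzc : ∀ p ∈ P, p * z = z * p := fun p hp => congrArg Subtype.val (mem_center_iff.mp hz ⟨p, hp⟩)
    obtain ⟨⟨x, y⟩, rfl | rfl⟩ := (C.mem_iff z).mp hzP
    · obtain rfl := (C.ι_t_comm_iff x y).mp (hzc _ C.t_mem)
      have hx : InZ x := mem_Z_of_central x fun d => by
        have := hzc _ (C.ι_mem (d, 1))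
        rw [← map_mul, ← map_mul] at this
        exact (congrArg Prod.fst (C.inj this)).symm
      rcases hx with rfl | rfl
      · exact Or.inl (map_one C.ι)
      · exact Or.inr rfl
    · exfalso
      have h1 := hzc _ (C.ι_mem (c, 1))
      rw [← mul_assoc, ← map_mul, mul_assoc, C.swap', ← mul_assoc, ← map_mul] at h1
      have h3 := congrArg Prod.fst (C.inj (mul_right_cancel h1))
      simp only [Prod.mk_mul_mk, mul_one] at h3
      exact c_ne_one (mul_eq_right.mp h3)
  have hle : center S ≤ (center P).map P.subtype := fun z hz =>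
    ⟨⟨z, hmemP z hz⟩, mem_center_iff.mpr fun p => Subtype.ext (mem_center_iff.mp hz p), rfl⟩
  have hdc : C.ι (c, c) ∈ center S := by
    by_contra hnot
    have hbot : center S = ⊥ := (eq_bot_iff_forall _).mpr fun z hz =>
      (hd z (hle hz)).resolve_right fun e => hnot (e ▸ hz)
    haveI : Nontrivial S := ⟨C.t, 1, fun e => C.t_ne 1 (by rw [map_one, e])⟩
    haveI := h2.center_nontrivial
    exact (nontrivial_iff_ne_bot (center S)).mp inferInstance hbot
  have hge : (center P).map P.subtype ≤ center S := fun z hz => by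
    rcases hd z hz with rfl | rfl
    exacts [one_mem _, hdc]
  refine ⟨le_antisymm hle hge, ?_, hdc⟩
  have hne : C.ι (c, c) ≠ 1 := fun e => c_ne_one (congrArg Prod.fst (C.inj (e.trans (map_one C.ι).symm)))
  have hset : ∀ z : S, z ∈ center S ↔ z ∈ ({1, C.ι (c, c)} : Set S) := fun z =>
    ⟨fun hz => hd z (hle hz), fun hz => by rcases hz with rfl | rfl; exacts [one_mem _, hdc]⟩
  rw [Nat.card_congr (Equiv.subtypeEquivRight hset)]
  exact (Nat.card_coe_set_eq _).trans (Set.ncard_pair hne.symm)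

theorem Coords.swaps (h2 : IsPGroup 2 S) (hr : Cfsg.SectionalPRankLE 2 4 S) {g : S}
    (hgN : g ∈ normalizer (P : Set S)) (hg : g ∉ P) :
    (C.sqr U1).map (MulAut.conj g).toMonoidHom = C.sqr U2 ∧ (C.sqr U2).map (MulAut.conj g).toMonoidHom = C.sqr U1 := by
  constructor
  · exact (C.classify (isBig_conj (C.isBig U1 (Or.inl rfl)) hgN)).resolve_left fun h => hg (C.mem_of_fix h2 hr hgN h)
  · exact (C.classify (isBig_conj (C.isBig U2 (Or.inr rfl)) hgN)).resolve_right fun h =>
      hg (C.mem_of_fix h2 hr hgN (C.fix_of_two hgN h))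

theorem Coords.mul_mem_of_not_mem (h2 : IsPGroup 2 S) (hr : Cfsg.SectionalPRankLE 2 4 S) {g g' : S}
    (hgN : g ∈ normalizer (P : Set S)) (hg : g ∉ P) (hgN' : g' ∈ normalizer (P : Set S)) (hg' : g' ∉ P) :
    g * g' ∈ P := by
  refine C.mem_of_fix h2 hr (mul_mem hgN hgN') ?_
  rw [map_mul, show (MulAut.conj g * MulAut.conj g').toMonoidHom
      = (MulAut.conj g).toMonoidHom.comp (MulAut.conj g').toMonoidHom from rfl, ← map_map,
    (C.swaps h2 hr hgN' hg').1, (C.swaps h2 hr hgN hg).2]

theorem Coords.relIndex_eq_two (h2 : IsPGroup 2 S) (hr : Cfsg.SectionalPRankLE 2 4 S) (hlt : P ≠ ⊤) :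
    P.relIndex (normalizer (P : Set S)) = 2 := by
  obtain ⟨g, hgN, hg⟩ := C.lt_normalizer h2 hlt
  refine index_eq_two_iff.mpr ⟨⟨g, hgN⟩, fun b => ?_⟩
  by_cases hb : (b : S) ∈ P
  · refine Or.inr ⟨hb, fun h => hg ?_⟩
    exact (mul_mem_cancel_left hb).mp h
  · exact Or.inl ⟨C.mul_mem_of_not_mem h2 hr b.2 hb hgN hg, hb⟩

/-- The normalizer modulo the centre is a Sylow subgroup of the symmetric group on eight points. -/
theorem Coords.quotient_equiv (h2 : IsPGroup 2 S) (hr : Cfsg.SectionalPRankLE 2 4 S) (hlt : P ≠ ⊤) :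
    ∃ (_ : ((center S).subgroupOf (normalizer (P : Set S))).Normal) (T : Sylow 2 (Equiv.Perm (Fin 8))),
      Nonempty (↥(normalizer (P : Set S)) ⧸ (center S).subgroupOf (normalizer (P : Set S)) ≃*
        ↥(T : Subgroup (Equiv.Perm (Fin 8)))) := by
  classical
  set N := normalizer (P : Set S)
  obtain ⟨hcen, hc2, hdc⟩ := C.centre_eq h2 hr
  obtain ⟨g, hgN, hg⟩ := C.lt_normalizer h2 hlt
  -- the base is invariant
  have hrange : ∀ x, g * C.ι x * g⁻¹ ∈ C.ι.range := C.conj_mem_range
    (fun v hv => map_le_range C.ι _ ((C.swaps h2 hr hgN hg).1.le ⟨v, hv, rfl⟩ : _))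
    (fun v hv => map_le_range C.ι _ ((C.swaps h2 hr hgN hg).2.le ⟨v, hv, rfl⟩ : _))
  obtain ⟨⟨e1, e2⟩, he | he⟩ := (C.mem_iff _).mp ((mem_normalizer_iff.mp hgN C.t).mp C.t_mem)
  · exfalso
    obtain ⟨y, hy⟩ : C.t ∈ C.ι.range := by
      have hBg : ∀ x, g⁻¹ * C.ι x * g⁻¹⁻¹ ∈ C.ι.range := C.conj_mem_range
        (fun v hv => map_le_range C.ι _ ((C.swaps h2 hr (inv_mem hgN) (fun h => hg (inv_mem_iff.mp h))).1.le ⟨v, hv, rfl⟩ : _))
        (fun v hv => map_le_range C.ι _ ((C.swaps h2 hr (inv_mem hgN) (fun h => hg (inv_mem_iff.mp h))).2.le ⟨v, hv, rfl⟩ : _))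
      have := hBg (e1, e2)
      rw [← he] at this
      simpa [mul_assoc] using this
    exact C.t_ne y hy
  have hee : e1 * e2 = 1 := by
    have h : g * C.t * g⁻¹ * (g * C.t * g⁻¹) = 1 := by
      rw [show g * C.t * g⁻¹ * (g * C.t * g⁻¹) = g * (C.t * C.t) * g⁻¹ by group, C.t_sq, mul_one, mul_inv_cancel]
    rw [he, mul_assoc, ← mul_assoc C.t, C.swap, ← map_mul] at h
    exact congrArg Prod.fst (C.inj (h.trans (map_one C.ι).symm))
  have he2 : e2 = e1⁻¹ := eq_inv_of_mul_eq_one_right hee
  subst he2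
  set g1 := (C.ι (e1, 1))⁻¹ * g
  have hg1N : g1 ∈ N := mul_mem (inv_mem (le_normalizer (C.ι_mem _))) hgN
  have hg1 : g1 ∉ P := fun h => hg (by
    have := mul_mem (C.ι_mem (e1, 1)) h
    rwa [mul_inv_cancel_left] at this)
  have hg1t : g1 * C.t = C.t * g1 := by
    have h1 : g * C.t = C.ι (e1, e1⁻¹) * C.t * g := by rw [← he, inv_mul_cancel_right]
    rw [mul_assoc, h1, ← mul_assoc, ← mul_assoc, ← map_inv, ← map_mul, Prod.inv_mk, Prod.mk_mul_mk,
      inv_mul_cancel, inv_one, one_mul, ← mul_assoc, ← map_inv, Prod.inv_mk, C.swap', inv_one]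
  -- the centralizer of the swap
  let Hc : Subgroup N := (centralizer {C.t}).subgroupOf N
  have hHc : ∀ s : N, s ∈ Hc ↔ C.t * (s : S) = s * C.t := fun s => by
    rw [mem_subgroupOf, mem_centralizer_singleton_iff]
    exact eq_comm
  have hP16 : ∀ s ∈ P, C.t * s = s * C.t → ∃ (a : D) (j : Bool), s = C.ι (a, a) * bif j then C.t else 1 := by
    intro s hs hst
    obtain ⟨⟨x, y⟩, rfl | rfl⟩ := (C.mem_iff s).mp hs
    · obtain rfl := (C.ι_t_comm_iff x y).mp hst
      exact ⟨x, false, (mul_one _).symm⟩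
    · rw [← mul_assoc] at hst
      obtain rfl := (C.ι_t_comm_iff x y).mp (mul_right_cancel hst)
      exact ⟨x, true, rfl⟩
  have hcardN : Nat.card N = 256 := by
    have h := (P.subgroupOf N).card_mul_index
    have hsub : P.relIndex N = 2 := C.relIndex_eq_two h2 hr hlt
    rw [Nat.card_congr (subgroupOfEquivOfLe (le_normalizer : P ≤ N)).toEquiv, show (P.subgroupOf N).index = 2 from hsub] at h
    let f : (D × D) × Bool → P := fun x => bif x.2 then ⟨C.ι x.1 * C.t, mul_mem (C.ι_mem _) C.t_mem⟩ else ⟨C.ι x.1, C.ι_mem _⟩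
    have hf : Function.Bijective f := by
      constructor
      · rintro ⟨x, i⟩ ⟨y, j⟩ h
        have h' := congrArg Subtype.val h
        cases i <;> cases j <;> simp only [f, cond_true, cond_false] at h'
        · rw [C.inj h']
        · exact absurd h'.symm (C.ι_mul_t_ne y x)
        · exact absurd h' (C.ι_mul_t_ne x y)
        · rw [C.inj (mul_right_cancel h')]
      · rintro ⟨s, hs⟩
        obtain ⟨x, hx | hx⟩ := (C.mem_iff s).mp hs
        exacts [⟨(x, false), Subtype.ext hx.symm⟩, ⟨(x, true), Subtype.ext hx.symm⟩]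
    rw [← h, ← Nat.card_congr (Equiv.ofBijective f hf), Nat.card_prod, Nat.card_prod, card_D, Nat.card_eq_fintype_card]
    rfl
  have hcardH : Nat.card Hc = 32 := by
    have htt : ∀ j : Bool, (bif j then C.t else 1) * C.t = C.t * bif j then C.t else 1 := fun j => by
      cases j <;> simp
    have hmem : ∀ (a : D) (j : Bool), C.ι (a, a) * (bif j then C.t else 1) ∈ P := fun a j => by
      refine mul_mem (C.ι_mem _) ?_
      cases j
      exacts [one_mem _, C.t_mem]
    have hcm : ∀ (a : D) (j : Bool), C.t * (C.ι (a, a) * bif j then C.t else 1)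
        = C.ι (a, a) * (bif j then C.t else 1) * C.t := fun a j => by
      rw [← mul_assoc, C.swap', mul_assoc, ← htt, ← mul_assoc]
    let f : (D × Bool) × Bool → Hc := fun x => bif x.2
      then ⟨⟨C.ι (x.1.1, x.1.1) * (bif x.1.2 then C.t else 1) * g1, mul_mem (le_normalizer (hmem _ _)) hg1N⟩,
        (hHc _).mpr (by
          show C.t * (C.ι (x.1.1, x.1.1) * (bif x.1.2 then C.t else 1) * g1)
            = C.ι (x.1.1, x.1.1) * (bif x.1.2 then C.t else 1) * g1 * C.t
          rw [← mul_assoc, hcm, mul_assoc, ← hg1t, ← mul_assoc])⟩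
      else ⟨⟨C.ι (x.1.1, x.1.1) * (bif x.1.2 then C.t else 1), le_normalizer (hmem _ _)⟩,
        (hHc _).mpr (hcm x.1.1 x.1.2)⟩
    have hinj : ∀ a b i j, C.ι (a, a) * (bif i then C.t else 1) = C.ι (b, b) * (bif j then C.t else 1) → a = b ∧ i = j := by
      intro a b i j h
      cases i <;> cases j <;> simp only [cond_true, cond_false, mul_one] at h
      · exact ⟨congrArg Prod.fst (C.inj h), rfl⟩
      · exact absurd h.symm (C.ι_mul_t_ne _ _)
      · exact absurd h (C.ι_mul_t_ne _ _)
      · exact ⟨congrArg Prod.fst (C.inj (mul_right_cancel h)), rfl⟩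
    have hf : Function.Bijective f := by
      constructor
      · rintro ⟨⟨a, i⟩, k⟩ ⟨⟨b, j⟩, l⟩ h
        have h' := congrArg (fun z : Hc => ((z : N) : S)) h
        cases k <;> cases l <;> simp only [f, cond_true, cond_false] at h'
        · obtain ⟨rfl, rfl⟩ := hinj a b i j h'; rfl
        · exact absurd ((mul_mem_cancel_left (hmem b j)).mp (h' ▸ hmem a i)) hg1
        · exact absurd ((mul_mem_cancel_left (hmem a i)).mp (h'.symm ▸ hmem b j)) hg1
        · obtain ⟨rfl, rfl⟩ := hinj a b i j (mul_right_cancel h'); rfl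
      · rintro ⟨⟨s, hsN⟩, hs⟩
        have hst : C.t * s = s * C.t := (hHc _).mp hs
        by_cases hsP : s ∈ P
        · obtain ⟨a, j, rfl⟩ := hP16 s hsP hst
          exact ⟨((a, j), false), rfl⟩
        · have hg1i : g1⁻¹ ∉ P := fun h => hg1 (inv_mem_iff.mp h)
          have hm : s * g1⁻¹ ∈ P := C.mul_mem_of_not_mem h2 hr hsN hsP (inv_mem hg1N) hg1i
          have hg1t' : g1⁻¹ * C.t = C.t * g1⁻¹ := (show Commute g1 C.t from hg1t).inv_left.eq
          obtain ⟨a, j, hj⟩ := hP16 _ hm (by rw [← mul_assoc, hst, mul_assoc, ← hg1t', ← mul_assoc])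
          exact ⟨((a, j), true), Subtype.ext (Subtype.ext
            (show C.ι (a, a) * (bif j then C.t else 1) * g1 = s by rw [← hj, inv_mul_cancel_right]))⟩
    rw [← Nat.card_congr (Equiv.ofBijective f hf), Nat.card_prod, Nat.card_prod, card_D, Nat.card_eq_fintype_card]
    rfl
  have hindex : Nat.card (N ⧸ Hc) = 8 := by
    have := Hc.card_mul_index
    rw [hcardN, hcardH, index_eq_card] at this
    omega
  -- the kernel
  have hker : Hc.normalCore = (center S).subgroupOf N := by
    refine le_antisymm (fun s hs => ?_) (fun s hs h => ?_)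
    · rw [mem_subgroupOf]
      have hcom : ∀ h : N, C.t * ((h * s * h⁻¹ : N) : S) = ((h * s * h⁻¹ : N) : S) * C.t := fun h =>
        (hHc _).mp (hs h)
      have hst : C.t * (s : S) = s * C.t := by simpa using hcom 1
      have hzero : ∀ r : N, r ∈ Hc.normalCore → (r : S) ∈ P → (r : S) ∈ center S := by
        intro r hr' hrP
        have hrt : C.t * (r : S) = r * C.t := by simpa using (hHc _).mp (hr' 1)
        have hre : ∀ e : D, C.ι (e, e⁻¹) * (r : S) = r * C.ι (e, e⁻¹) := fun e => by
          have hc := (hHc _).mp (hr' ⟨C.ι (e, 1), le_normalizer (C.ι_mem _)⟩⁻¹)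
          change C.t * ((C.ι (e, 1))⁻¹ * (r : S) * (C.ι (e, 1))⁻¹⁻¹) = (C.ι (e, 1))⁻¹ * (r : S) * (C.ι (e, 1))⁻¹⁻¹ * C.t at hc
          rw [inv_inv] at hc
          have hconj : C.ι (e, 1) * C.t * (C.ι (e, 1))⁻¹ = C.ι (e, e⁻¹) * C.t := by
            rw [mul_assoc, ← map_inv, C.swap', ← mul_assoc, ← map_mul]
            simp
          have h1 : C.ι (e, e⁻¹) * C.t * r = r * (C.ι (e, e⁻¹) * C.t) := by
            rw [← hconj]
            have := congrArg (fun z => C.ι (e, 1) * z * (C.ι (e, 1))⁻¹) hc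
            simpa [mul_assoc] using this
          rw [mul_assoc, hrt, ← mul_assoc, ← mul_assoc] at h1
          exact mul_right_cancel h1
        obtain ⟨a, j, hj⟩ := hP16 _ hrP hrt
        cases j
        · rw [cond_false, mul_one] at hj
          have ha : InZ a := mem_Z_of_central a fun e => by
            have := hre e
            rw [hj, ← map_mul, ← map_mul] at this
            exact (congrArg Prod.fst (C.inj this)).symm
          rcases ha with rfl | rfl
          · rw [hj, show ((1 : D), (1 : D)) = 1 from rfl, map_one]; exact one_mem _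
          · rw [hj]; exact hdc
        · exfalso
          rw [cond_true] at hj
          refine not_inverting a fun e => ?_
          have := hre e
          rw [hj, mul_assoc (C.ι (a, a)), C.swap', ← mul_assoc, ← mul_assoc, ← map_mul, ← map_mul] at this
          exact (congrArg Prod.fst (C.inj (mul_right_cancel this))).symm
      by_cases hsP : (s : S) ∈ P
      · exact hzero s hs hsP
      exfalso
      refine hsP (C.mem_of_fix h2 hr s.2 (eq_of_le_of_card_ge ?_ (card_map_of_injective (MulAut.conj (s : S)).injective).ge))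
      rintro _ ⟨v, hv, rfl⟩
      have hvP : v ∈ P := (C.isBig U1 (Or.inl rfl)).1 hv
      set r : N := s * ⟨v, le_normalizer hvP⟩ * s⁻¹ * ⟨v, le_normalizer hvP⟩⁻¹
      have hr' : r ∈ Hc.normalCore := by
        rw [show r = s * (⟨v, le_normalizer hvP⟩ * s⁻¹ * ⟨v, le_normalizer hvP⟩⁻¹) by simp [r, mul_assoc]]
        exact mul_mem hs ((normalCore_normal Hc).conj_mem _ (inv_mem hs) _)
      have hrP : (r : S) ∈ P := mul_mem ((mem_normalizer_iff.mp s.2 v).mp hvP) (inv_mem hvP)
      obtain ⟨z, hz, hzr⟩ : (r : S) ∈ (center P).map P.subtype := hcen ▸ hzero r hr' hrP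
      have hrc : (r : S) ∈ C.sqr U1 := by
        have : (r : S) ∈ center S := hzero r hr' hrP
        have hpair : ∀ w ∈ center S, w ∈ C.sqr U1 := by
          have hsub : ({1, C.ι (c, c)} : Set S) ⊆ (center S : Set S) := by
            rintro w (rfl | rfl)
            exacts [one_mem _, hdc]
          have hne : C.ι (c, c) ≠ 1 := fun e => c_ne_one (congrArg Prod.fst (C.inj (e.trans (map_one C.ι).symm)))
          have heq := Set.eq_of_subset_of_ncard_le hsub (by
            rw [Set.ncard_pair hne.symm, ← Nat.card_coe_set_eq]; exact hc2.le)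
          intro w hw
          rw [← SetLike.mem_coe, ← heq] at hw
          rcases hw with rfl | rfl
          exacts [one_mem _, C.mem_sqr.mpr ⟨c, Or.inr (Or.inl rfl), c, Or.inr (Or.inl rfl), rfl⟩]
        exact hpair _ this
      have := mul_mem hrc hv
      rwa [show (r : S) * v = (s : S) * v * (s : S)⁻¹ by simp [r]] at this
    · rw [hHc]
      have hs' : (s : S) ∈ center S := hs
      have hz : ((h * s * h⁻¹ : N) : S) = s := by
        show (h : S) * s * (h : S)⁻¹ = s
        rw [mem_center_iff.mp hs' h, mul_inv_cancel_right]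
      rw [hz, mem_center_iff.mp hs' C.t]
  haveI : Fintype (N ⧸ Hc) := Fintype.ofFinite _
  let e8 : N ⧸ Hc ≃ Fin 8 := Fintype.equivFinOfCardEq (by rw [← Nat.card_eq_fintype_card, hindex])
  let φ : N →* Equiv.Perm (Fin 8) := e8.permCongrHom.toMonoidHom.comp (MulAction.toPermHom N (N ⧸ Hc))
  have hφ : φ.ker = (center S).subgroupOf N := by
    rw [← hker, normalCore_eq_ker]
    ext x
    exact e8.permCongrHom.map_eq_one_iff
  have hn : ((center S).subgroupOf N).Normal := by rw [← hφ]; infer_instance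
  have hcz : Nat.card ((center S).subgroupOf N) = 2 := by
    rw [Nat.card_congr (subgroupOfEquivOfLe (fun z hz => ?_)).toEquiv, hc2]
    exact mem_normalizer_iff.mpr fun v => by rw [← mem_center_iff.mp hz v, mul_inv_cancel_right]
  have hcr : Nat.card φ.range = 2 ^ 7 := by
    have h := φ.ker.card_mul_index
    rw [index_ker, hφ, hcz, hcardN] at h
    omega
  refine ⟨hn, Sylow.ofCard φ.range (by rw [factorization_eight, hcr]), ⟨?_⟩⟩
  exact (QuotientGroup.quotientMulEquivOfEq hφ.symm).trans (QuotientGroup.quotientKerEquivRange φ)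

end Cfsg.Agent.Lib.WreathFour
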